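import Cfsg.Agent.H58.Rec.Outer
import Cfsg.Agent.H58.Rec.Names
import Cfsg.Agent.H413.JOneSpec
import Cfsg.Agent.S2065

/-!
# S3484, row `J1` (helper456 for helper58)
-/

set_option autoImplicit false

namespace Cfsg.Agent.H456.Rec

open Subgroup Cfsg
open Cfsg.Agent.H455.Isolated
open Cfsg.Agent.H58.Rec Cfsg.Agent.OrdDiv Cfsg.Agent.H436

universe u v w

section Tools

variable {G : Type u} [Group G] [Finite G] {X : Type v} [Group X] {π : G →* X} {S : Subgroup X} {r : ℕ}

theorem card_S_dvd (h : Red π S r) : Nat.card S ∣ Nat.card G := by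
  have hfX : Finite X := Finite.of_surjective π h.surj
  exact (card_subgroup_dvd_card S).trans (card_dvd_of_surjective π h.surj)

theorem iso_S (h : Red π S r) {s : ℕ} (hs : Isolated G s) : Isolated S s := by
  have hfX : Finite X := Finite.of_surjective π h.surj
  rw [isolated_iff] at hs ⊢
  intro t ht hts h1
  exact hs t ht hts (h.hasOrd' h1)

theorem iso_X (h : Red π S r) {s : ℕ} (hs : Isolated G s) : Isolated X s := by
  rw [isolated_iff] at hs ⊢
  intro t ht hts h1
  exact hs t ht hts (h.hasOrd h1)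

omit [Finite G] in
/-- an isolated prime from a list of orders -/
theorem isolated_of_list {L : List ℕ} (hL : ∀ n, HasOrd G n → n ∈ L) {s : ℕ} (hs : s.Prime)
    (hd : ∀ n ∈ L, s ∣ n → n = s) : Isolated G s := by
  rw [isolated_iff]
  intro t ht hts h1
  have h2 := hd _ (hL _ h1) (Dvd.intro _ rfl)
  have h3 : t = 1 := Nat.eq_of_mul_eq_mul_left hs.pos (by rw [h2, mul_one])
  exact ht.one_lt.ne' h3

/-- an element of order four of `L₃(q)`, `q` odd -/
theorem four_psl {F : Type*} [Field F] [Finite F] (h2 : (2 : F) ≠ 0) :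
    HasOrd (Matrix.ProjectiveSpecialLinearGroup (Fin 3) F) 4 := by
  let A : Matrix.SpecialLinearGroup (Fin 3) F := ⟨!![0, -1, 0; 1, 0, 0; 0, 0, 1], by simp [Matrix.det_fin_three]⟩
  have hA2 : ((A * A : Matrix.SpecialLinearGroup (Fin 3) F) : Matrix (Fin 3) (Fin 3) F) =
      !![-1, 0, 0; 0, -1, 0; 0, 0, 1] := by
    rw [Matrix.SpecialLinearGroup.coe_mul]
    ext i j
    fin_cases i <;> fin_cases j <;> simp [A, Matrix.mul_apply, Fin.sum_univ_three]
  have hA4 : A ^ 4 = 1 := by
    apply Subtype.ext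
    have h4 : A ^ 4 = (A * A) * (A * A) := by rw [show (4 : ℕ) = 2 + 2 from rfl, pow_add, pow_two]
    rw [h4, Matrix.SpecialLinearGroup.coe_mul, hA2, Matrix.SpecialLinearGroup.coe_one]
    ext i j
    fin_cases i <;> fin_cases j <;> simp [Matrix.mul_apply, Fin.sum_univ_three]
  refine ⟨QuotientGroup.mk A, ?_⟩
  have h1 : (QuotientGroup.mk A : Matrix.ProjectiveSpecialLinearGroup (Fin 3) F) ^ 2 ^ (1 + 1) = 1 := by
    rw [← QuotientGroup.mk_pow, show 2 ^ (1 + 1) = 4 from rfl, hA4]
    rfl
  have h3 : ¬ (QuotientGroup.mk A : Matrix.ProjectiveSpecialLinearGroup (Fin 3) F) ^ 2 ^ 1 = 1 := by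
    intro h3
    rw [← QuotientGroup.mk_pow, QuotientGroup.eq_one_iff, show 2 ^ 1 = 2 from rfl, pow_two,
      Matrix.SpecialLinearGroup.mem_center_iff] at h3
    obtain ⟨c, -, hc⟩ := h3
    rw [hA2] at hc
    have e0 := congrFun (congrFun hc 0) 0
    have e2 := congrFun (congrFun hc 2) 2
    simp at e0 e2
    apply h2
    rw [e2] at e0
    linear_combination e0
  exact orderOf_eq_prime_pow h3 h1

end Tools

namespace J1

/-- the element orders -/
theorem ords {M : Type v} [Group M] (hM : Spor.IsoJ1 M) (n : ℕ) :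
    HasOrd M n ↔ n ∈ ([1, 2, 3, 5, 6, 7, 10, 11, 15, 19] : List ℕ) := by
  obtain ⟨e⟩ := hM
  have h := Cfsg.Agent.H413.JOneSpec.exists_orderOf_iff n
  have h1 : HasOrd M n ↔ HasOrd Spor.J1 n := ⟨fun h => h.congr e, fun h => HasOrd.congr h e.symm⟩
  rw [h1]
  refine Iff.trans h ?_
  simp

/-- **Row `J1`.** -/
theorem rec_j1 (hN : NameHyp.{u}) {G : Type u} [Group G] [Finite G] {M : Type v} [Group M] [Finite M]
    (hM : Spor.IsoJ1 M) (h : Same G M) : Nonempty (G ≃* M) := by
  have hG : ∀ n, HasOrd G n ↔ n ∈ ([1, 2, 3, 5, 6, 7, 10, 11, 15, 19] : List ℕ) := fun n => (h n).trans (ords hM n)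
  have hM' := ords hM
  have hGL : ∀ n, HasOrd G n → n ∈ ([1, 2, 3, 5, 6, 7, 10, 11, 15, 19] : List ℕ) := fun n hn => (hG n).1 hn
  have i7 : Isolated G 7 := isolated_of_list hGL (by norm_num) (by decide)
  have i11 : Isolated G 11 := isolated_of_list hGL (by norm_num) (by decide)
  have i19 : Isolated G 19 := isolated_of_list hGL (by norm_num) (by decide)
  have hdv : ∀ p : ℕ, p.Prime → (p ∣ Nat.card G ↔ p ∈ ([1, 2, 3, 5, 6, 7, 10, 11, 15, 19] : List ℕ)) := fun p hp => by
    rw [← hG, hasOrd_prime hp]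
  have d2 : 2 ∣ Nat.card G := (hdv 2 (by norm_num)).2 (by decide)
  have d7 : 7 ∣ Nat.card G := (hdv 7 (by norm_num)).2 (by decide)
  have d11 : 11 ∣ Nat.card G := (hdv 11 (by norm_num)).2 (by decide)
  have d19 : 19 ∣ Nat.card G := (hdv 19 (by norm_num)).2 (by decide)
  have hdM : ∀ p : ℕ, p.Prime → (p ∣ Nat.card M ↔ p ∈ ([1, 2, 3, 5, 6, 7, 10, 11, 15, 19] : List ℕ)) := fun p hp => by
    rw [← hM', hasOrd_prime hp]
  have hns : ¬ Group.IsSolvable G := not_solvable_of_same h (r := 7) (s := 11) (t := 19) (by norm_num) (by norm_num)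
    (by norm_num) (by norm_num) (by norm_num) (by norm_num) ((hdM 7 (by norm_num)).2 (by decide))
    ((hdM 11 (by norm_num)).2 (by decide)) ((hdM 19 (by norm_num)).2 (by decide)) (by rw [hM']; decide)
    (by rw [hM']; decide) (by rw [hM']; decide)
  have g7 : Good G 7 := good_of_two (by norm_num) (by norm_num) d7 i7 (s := 11) (by norm_num) (by norm_num) d11 i11
    (by norm_num)
  have g11 : Good G 11 := good_of_two (by norm_num) (by norm_num) d11 i11 (s := 7) (by norm_num) (by norm_num) d7 i7
    (by norm_num)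
  have g19 : Good G 19 := good_of_two (by norm_num) (by norm_num) d19 i19 (s := 7) (by norm_num) (by norm_num) d7 i7
    (by norm_num)
  obtain ⟨X, _, _, π, S, hred⟩ := exists_red hns d2 g7
  have r7 := hred 7 g7
  have r11 := hred 11 g11
  have r19 := hred 19 g19
  have hsim := r7.simple
  obtain ⟨g, hg⟩ := hN S r7.nonab
  have hcS := card_S_dvd r7
  have hmem : g ∈ lst [2, 3, 5, 7, 11, 19] [7, 11, 19] 19 13 := by
    refine mem_lst hg (by norm_num) (by decide) (by norm_num) (by decide) ?_ ?_
    · intro p hp hpS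
      have h1 := (hdv p hp).1 (hpS.trans hcS)
      simp only [List.mem_cons, List.not_mem_nil, or_false] at h1
      rcases h1 with rfl | rfl | rfl | rfl | rfl | rfl | rfl | rfl | rfl | rfl <;> first | decide | (norm_num at hp)
    · intro p hp
      simp only [List.mem_cons, List.not_mem_nil, or_false] at hp
      rcases hp with rfl | rfl | rfl
      · exact r7.dvd
      · exact r11.dvd
      · exact r19.dvd
  have hlst : lst [2, 3, 5, 7, 11, 19] [7, 11, 19] 19 13 = [.j1, .hn, .psl 3 11] := by decide +kernel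
  rw [hlst] at hmem
  have s7 := iso_S r7 i7
  have s11 := iso_S r7 i11
  have s19 := iso_S r7 i19
  simp only [List.mem_cons, List.not_mem_nil, or_false] at hmem
  rcases hmem with rfl | rfl | rfl
  · -- `J1`
    have hc : Nat.card S = 175560 := by rw [hg.ord]; decide +kernel
    have f11 : HasFrob S 11 10 := hasFrob_of_isolated (N := 175560) (by norm_num) hc s11 (by norm_num) (by norm_num)
      (by norm_num) (by decide +kernel)
    have f19 : HasFrob S 19 6 := hasFrob_of_isolated (N := 175560) (by norm_num) hc s19 (by norm_num) (by norm_num)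
      (by norm_num) (by decide +kernel)
    have hk2 : ¬ 2 ∣ Nat.card π.ker := r7.kill' (by norm_num) (by norm_num) (by norm_num) f11 (by rw [hG]; decide)
    have hk5 : ¬ 5 ∣ Nat.card π.ker := r7.kill' (by norm_num) (by norm_num) (by norm_num) f11 (by rw [hG]; decide)
    have hk3 : ¬ 3 ∣ Nat.card π.ker := r7.kill' (by norm_num) (by norm_num) (by norm_num) f19 (by rw [hG]; decide)
    obtain ⟨e⟩ := hM
    obtain ⟨e'⟩ : Spor.IsoJ1 S := hg.real
    refine finish r7 ?_ (e'.trans e.symm) (Or.inl ?_)
    · intro p hp hpG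
      have h1 := (hdv p hp).1 hpG
      simp only [List.mem_cons, List.not_mem_nil, or_false] at h1
      rcases h1 with rfl | rfl | rfl | rfl | rfl | rfl | rfl | rfl | rfl | rfl
      · norm_num at hp
      · exact hk2
      · exact hk3
      · exact hk5
      · norm_num at hp
      · exact r7.not_dvd
      · norm_num at hp
      · exact r11.not_dvd
      · norm_num at hp
      · exact r19.not_dvd
    · rw [Cfsg.Agent.H548.Crit.card_out_congr e]
      exact S2065.result
  · -- `HN`
    exfalso
    have hc : Nat.card S = 273030912000000 := by rw [hg.ord]; decide +kernel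
    have f19 : HasFrob S 19 9 := hasFrob_of_isolated (N := 273030912000000) (by norm_num) hc s19 (by norm_num)
      (by norm_num) (by norm_num) (by decide +kernel)
    obtain ⟨T, c, -, -, -, hc9, -⟩ := f19
    have h1 : HasOrd G 9 := r7.hasOrd' ⟨c, hc9⟩
    rw [hG] at h1
    revert h1
    decide
  · -- `L₃(11)`
    exfalso
    obtain ⟨F, _, _, hF, ⟨e⟩⟩ := hg.real
    have h1 : HasOrd G 4 := r7.hasOrd' ((four_psl (F := F) (by
      intro h2
      have h3 := Nat.cast_card_eq_zero F
      rw [hF] at h3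
      have h4 : (1 : F) = 0 := by
        push_cast at h3
        linear_combination h3 - 5 * h2
      exact one_ne_zero h4)).congr e.symm)
    rw [hG] at h1
    revert h1
    decide

end J1

end Cfsg.Agent.H456.Rec
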